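import Groth.Agent.An.H895.FinTransfer
import Groth.Agent.An.H882.EpsCont
import Groth.Agent.An.H883.EpsLim

/-!
# The comparison theorem for constructible sheaves from constant coefficients

* `hcmp_bijective_of_const`: if the comparison maps are bijective for finite constant coefficients on all
  schemes finite over `X`, they are bijective for all constructible sheaves on `X`.
-/

set_option autoImplicit false
open CategoryTheory CategoryTheory.Limits AlgebraicGeometry

noncomputable section

namespace Groth.Agent.An.H895.ConstReduction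

variable (X : Scheme.{0}) [X.Over An.SC] [LocallyOfFiniteType (X ↘ An.SC)] [Fact An.EtaleLH]
  [An.EpsCont X] [PreservesFiniteLimits (An.epsPull X)]

/-- **Constant coefficients suffice.** -/
theorem hcmp_bijective_of_const [QuasiCompact (X ↘ An.SC)]
    (h : ∀ (Y : Scheme.{0}) [Y.Over An.SC] [LocallyOfFiniteType (Y ↘ An.SC)]
      [QuasiCompact (Y ↘ An.SC)] [An.EpsCont Y] [PreservesFiniteLimits (An.epsPull Y)]
      (p : Y ⟶ X) [p.IsOver An.SC] [IsFinite p] (M : Type) [AddCommGroup M] [Finite M] (q : ℕ),
      Function.Bijective (An.Hcmp Y (EtCoh.const Y M) q))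
    (F : EtCoh.Ab X) (hF : EtPBC.IsConstructible F) (q : ℕ) :
    Function.Bijective (An.Hcmp X F q) := by
  have h0 : IsLocallyNoetherian X := LocallyOfFiniteType.isLocallyNoetherian (X ↘ An.SC)
  have h1 : CompactSpace X := QuasiCompact.compactSpace_of_compactSpace (X ↘ An.SC)
  have h2 : IsNoetherian X := {}
  refine Consts.hcmp_bijective_of_push_const X (fun Y p _ M _ _ q => ?_) F hF q
  letI : Y.Over An.SC := ⟨p ≫ X ↘ An.SC⟩
  have i1 : p.IsOver An.SC := ⟨rfl⟩
  have i2 : LocallyOfFiniteType (Y ↘ An.SC) := by
    change LocallyOfFiniteType (p ≫ X ↘ An.SC)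
    infer_instance
  have i3 : QuasiCompact (Y ↘ An.SC) := by
    change QuasiCompact (p ≫ X ↘ An.SC)
    infer_instance
  have i4 : An.EpsCont Y := Groth.Agent.An.H882.EpsCont.epsCont Y
  have i5 : PreservesFiniteLimits (An.epsPull Y) :=
    Groth.Agent.An.H883.EpsLim.preservesFiniteLimits_epsPull Y
  exact FinTransfer.hcmp_push p (EtCoh.const Y M) q (h Y p M q)

end Groth.Agent.An.H895.ConstReduction
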