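import Groth.Agent.Sga4B.ExtCmpSquare

/-!
# Dimension shifting for comparison maps of Ext groups inside a class of objects

If every object of a class `P` embeds into an object for which the comparison map is bijective in all
degrees, with quotient in `P`, then the comparison map is bijective in all degrees on `P`.
-/

set_option autoImplicit false

universe w w' v v' u u'

open CategoryTheory CategoryTheory.Limits CategoryTheory.Abelian

namespace Groth.Agent.An.H895.Dev

open Groth.Agent.Sga4B.ExtCmp

variable {C : Type u} [Category.{v} C] [Abelian C] [HasExt.{w} C]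
variable {D : Type u'} [Category.{v'} D] [Abelian D] [HasExt.{w'} D]
variable (Φ : C ⥤ D) [Φ.Additive] [PreservesFiniteLimits Φ] [PreservesFiniteColimits Φ]
variable {A : C} {B : D} (b : B ⟶ Φ.obj A)

/-- **Dimension shifting.** -/
theorem bijective_of_embedding (P : C → Prop)
    (hgood : ∀ F, P F → ∃ (S : ShortComplex C) (_ : S.ShortExact) (_ : S.X₁ = F), P S.X₃ ∧
      ∀ q : ℕ, Function.Bijective (cmp Φ b S.X₂ q)) :
    ∀ (q : ℕ) (F : C), P F → Function.Bijective (cmp Φ b F q) := by
  have inj0 : ∀ F, P F → Function.Injective (cmp Φ b F 0) := by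
    intro F hF
    obtain ⟨S, hS, rfl, -, h2⟩ := hgood F hF
    exact injective_zero_of_mono Φ b hS (h2 0).1
  intro q
  induction q with
  | zero =>
    intro F hF
    refine ⟨inj0 F hF, ?_⟩
    obtain ⟨S, hS, rfl, h3, h2⟩ := hgood F hF
    exact surjective_zero Φ b hS (h2 0).2 (inj0 _ h3)
  | succ q ih =>
    have inj : ∀ F, P F → Function.Injective (cmp Φ b F (q + 1)) := by
      intro F hF
      obtain ⟨S, hS, rfl, h3, h2⟩ := hgood F hF
      exact injective_succ Φ b hS q (h2 q).2 (ih _ h3).1 (h2 (q + 1)).1
    intro F hF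
    refine ⟨inj F hF, ?_⟩
    obtain ⟨S, hS, rfl, h3, h2⟩ := hgood F hF
    exact surjective_succ Φ b hS q (ih _ h3).2 (h2 (q + 1)).2 (inj _ h3)

end Groth.Agent.An.H895.Dev
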