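import Groth.Agent.An.H890.Mates

/-!
# The base change transformation and the isomorphism of inverse images
-/

set_option autoImplicit false

open CategoryTheory

namespace Groth.Agent.An.H895.MateCompat

open Groth.Agent.An.H890.Mates

variable {A B A' B' : Type*} [Category* A] [Category* B] [Category* A'] [Category* B']
  {f' : B ⥤ A} {f : A ⥤ B} (af : f' ⊣ f)
  {g' : B' ⥤ A'} {g : A' ⥤ B'} (ag : g' ⊣ g)
  {εA' : A ⥤ A'} {εA : A' ⥤ A} (aA : εA' ⊣ εA)
  {εB' : B ⥤ B'} {εB : B' ⥤ B} (aB : εB' ⊣ εB)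
  (γ : εA ⋙ f ≅ g ⋙ εB)

/-- The transpose of the base change transformation `f ⋙ εB' ⟶ εA' ⋙ g` is the isomorphism of inverse
images followed by the counit. -/
theorem map_bcOf_counit (K : A) :
    g'.map ((bcOf aA aB γ.hom).app K) ≫ ag.counit.app (εA'.obj K) =
      (leftIso (af.comp aA) (aB.comp ag) γ).inv.app (f.obj K) ≫ εA'.map (af.counit.app K) := by
  apply ((aB.comp ag).homEquiv (f.obj K) (εA'.obj K)).injective
  rw [Adjunction.homEquiv_unit, Adjunction.homEquiv_unit]
  have h1 := unit_bcOf aA aB γ.hom K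
  have h2 := unit_leftIso (af.comp aA) (aB.comp ag) γ (f.obj K)
  have e2 : ∀ c, (aB.comp ag).unit.app c = aB.unit.app c ≫ εB.map (ag.unit.app (εB'.obj c)) :=
    fun c => by simp [Adjunction.comp]
  have e1 : ∀ c, (af.comp aA).unit.app c = af.unit.app c ≫ f.map (aA.unit.app (f'.obj c)) :=
    fun c => by simp [Adjunction.comp]
  have h3 : (aB.comp ag).unit.app (f.obj K) ≫
      (g ⋙ εB).map ((leftIso (af.comp aA) (aB.comp ag) γ).inv.app (f.obj K)) =
        (af.comp aA).unit.app (f.obj K) ≫ γ.hom.app (εA'.obj (f'.obj (f.obj K))) := by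
    rw [← h2, Category.assoc, Category.assoc, ← Functor.map_comp, Iso.hom_inv_id_app]
    erw [CategoryTheory.Functor.map_id, Category.comp_id]
    rfl
  have h3' := congrArg (fun t => t ≫ (g ⋙ εB).map (εA'.map (af.counit.app K))) h3
  simp only [Category.assoc] at h3'
  rw [Functor.map_comp, Functor.map_comp]
  refine Eq.trans ?_ h3'.symm
  rw [e2, e1]
  have h4 := ag.unit.naturality ((bcOf aA aB γ.hom).app K)
  have h5 := ag.right_triangle_components (εA'.obj K)
  have h6 := γ.hom.naturality (εA'.map (af.counit.app K))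
  have h7 := aA.unit.naturality (af.counit.app K)
  have h8 := af.right_triangle_components K
  simp only [Functor.id_map, Functor.comp_map, Functor.id_obj, Functor.comp_obj] at h1 h4 h5 h6 h7 h8 ⊢
  simp only [Category.assoc]
  have l1 : εB.map (ag.unit.app (εB'.obj (f.obj K))) ≫
      εB.map (g.map (g'.map ((bcOf aA aB γ.hom).app K))) ≫
        εB.map (g.map (ag.counit.app (εA'.obj K))) = εB.map ((bcOf aA aB γ.hom).app K) := by
    rw [← εB.map_comp_assoc, ← h4, εB.map_comp, Category.assoc, ← εB.map_comp, h5, εB.map_id,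
      Category.comp_id]
  rw [l1, h1, ← h6, ← f.map_comp_assoc, ← h7, f.map_comp_assoc, reassoc_of% h8]

end Groth.Agent.An.H895.MateCompat
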