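import Groth.Agent.An.H895.Consts
import Groth.Agent.An.H895.MateCompat
import Groth.Agent.An.H890.FibreRed
import Groth.Agent.An.H891.ClSq
import Groth.Agent.An.H882.FinPush
import Groth.Agent.Sga4A.IntegralSection
import Groth.Agent.Etcore.FastInst
import Groth.Agent.S4203

/-!
# The comparison maps and finite morphisms

* `hcmp_push`: `Hcmp Y G q` bijective implies `Hcmp X (p_* G) q` bijective for `p : Y ⟶ X` finite;
* `hcmp_bijective_of_const`: constant coefficients on all schemes finite over `X` suffice.
-/

set_option autoImplicit false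
open CategoryTheory CategoryTheory.Limits AlgebraicGeometry

noncomputable section

namespace Groth.Agent.An.H895.FinTransfer

open Groth.Agent.Sga4B.ExtCmp Groth.Agent.An.H890.Theta Groth.Agent.An.H891.ClSq
  Groth.Agent.An.H890.Mates

variable {X Y : Scheme.{0}} [X.Over An.SC] [Y.Over An.SC] [LocallyOfFiniteType (X ↘ An.SC)]
  [LocallyOfFiniteType (Y ↘ An.SC)] [Fact An.EtaleLH] [An.EpsCont X] [An.EpsCont Y]
  [PreservesFiniteLimits (An.epsPull X)] [PreservesFiniteLimits (An.epsPull Y)]
  (p : Y ⟶ X) [p.IsOver An.SC] [IsFinite p]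

theorem additive_epsPull (X : Scheme.{0}) [X.Over An.SC] [LocallyOfFiniteType (X ↘ An.SC)]
    [Fact An.EtaleLH] [An.EpsCont X] :
    @Functor.Additive (EtCoh.Ab X) (An.Cl.Ab (An.Pts X)) _ _ Abelian.toPreadditive
      Abelian.toPreadditive (An.epsPull X) := An.epsPull_additive X

attribute [local instance 5000] additive_epsPull

section

theorem exact_push : PreservesFiniteColimits (clPush (An.Pts.mapC p)) := by
  obtain ⟨h1, h2, h3⟩ := (Groth.Agent.S4203.result Y X p).1 inferInstance
  exact H882.FinPush.preservesFiniteColimits_push (An.Pts.mapC p) h1.isClosedMap h2 h3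

theorem push_lim : PreservesFiniteLimits (EtCoh.push p) :=
  have : PreservesLimitsOfSize.{0, 0} (EtCoh.push p) :=
    (EtCoh.pullPushAdj p).rightAdjoint_preservesLimits
  PreservesLimitsOfSize.preservesFiniteLimits _

theorem theta_compat (G : EtCoh.Ab Y) : (clPull (An.Pts.mapC p)).map ((theta p).app G) ≫
      (clAdj (An.Pts.mapC p)).counit.app ((An.epsPull Y).obj G) =
        (pullEps p).symm.hom.app ((EtCoh.push p).obj G) ≫
          (An.epsPull Y).map ((EtCoh.pullPushAdj p).counit.app G) :=
  MateCompat.map_bcOf_counit (EtCoh.pullPushAdj p) (clAdj (An.Pts.mapC p)) (An.epsAdj Y)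
    (An.epsAdj X) (gamma p) G

/-- Transfer of injectivity along finite morphisms. -/
theorem injective_hcmp_push (G : EtCoh.Ab Y) (q : ℕ) (h : Function.Injective (An.Hcmp Y G q)) :
    Function.Injective (An.Hcmp X ((EtCoh.push p).obj G) q) := by
  have i1 : PreservesFiniteColimits (EtCoh.push p) := Sga4A.EtSplit.preservesFiniteColimits_push p
  have i2 : PreservesFiniteColimits (clPush (An.Pts.mapC p)) := exact_push p
  have i3 : PreservesFiniteLimits (EtCoh.pull p) := Etcore.FastInst.pullExact p
  have i4 : PreservesFiniteLimits (EtCoh.push p) := push_lim p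
  exact injective_of_square (An.epsPull X) (An.epsPull Y) (EtCoh.pullPushAdj p)
    (clAdj (An.Pts.mapC p)) (pullEps p).symm (An.epsPullConst X ℤ).inv q _ (theta_compat p G)
    (injective_change (An.epsPull Y) (An.epsPullConst Y ℤ).inv _ (EtCore.pullConst p ℤ).hom G q h)

/-- Transfer of surjectivity along finite morphisms. -/
theorem surjective_hcmp_push (G : EtCoh.Ab Y) (q : ℕ) (h : Function.Surjective (An.Hcmp Y G q)) :
    Function.Surjective (An.Hcmp X ((EtCoh.push p).obj G) q) := by
  have i1 : PreservesFiniteColimits (EtCoh.push p) := Sga4A.EtSplit.preservesFiniteColimits_push p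
  have i2 : PreservesFiniteColimits (clPush (An.Pts.mapC p)) := exact_push p
  have i3 : PreservesFiniteLimits (EtCoh.pull p) := Etcore.FastInst.pullExact p
  have i4 : PreservesFiniteLimits (EtCoh.push p) := push_lim p
  have i5 : IsIso ((theta p).app G) := H890.FibreRed.isIso_theta_app_of_isFinite p G
  exact surjective_of_square (An.epsPull X) (An.epsPull Y) (EtCoh.pullPushAdj p)
    (clAdj (An.Pts.mapC p)) (pullEps p).symm (An.epsPullConst X ℤ).inv q _ (theta_compat p G)
    (surjective_change (An.epsPull Y) (An.epsPullConst Y ℤ).inv _ (EtCore.pullConst p ℤ).hom G q h)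

end

/-- **Transfer along finite morphisms.** -/
theorem hcmp_push (G : EtCoh.Ab Y) (q : ℕ) (h : Function.Bijective (An.Hcmp Y G q)) :
    Function.Bijective (An.Hcmp X ((EtCoh.push p).obj G) q) :=
  ⟨injective_hcmp_push p G q h.1, surjective_hcmp_push p G q h.2⟩

end Groth.Agent.An.H895.FinTransfer
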