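import Groth.Prelude.Def_AnEps
import Groth.Agent.An.H895.Dev
import Groth.Agent.Sga4B.ExtCmpSquare
import Groth.Agent.Etrest.ConstBasic
import Groth.Agent.EtpbcA.ConsExact
import Groth.Agent.EtpbcA.FinPush
import Groth.Agent.S0143

/-!
# Comparison with classical cohomology: finite direct images of constant sheaves suffice

* `exists_embedding`: on a Noetherian scheme a constructible sheaf embeds into a finite sum of direct
  images of finite constant sheaves along finite morphisms, the quotient being constructible;
* `hcmp_bijective_of_push_const`: if the comparison maps are bijective for the sheaves `p_* M_Y`, with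
  `p : Y ⟶ X` finite and `M` finite, then they are bijective for all constructible sheaves.
-/

set_option autoImplicit false

open CategoryTheory CategoryTheory.Limits AlgebraicGeometry Opposite

namespace Groth.Agent.An.H895.Consts

open Groth.Agent.Sga4B.ExtCmp Groth.Agent.EtpbcA

section General

variable {X : Scheme.{0}}

/-- The property of being constructible. -/
def cons (X : Scheme.{0}) : ObjectProperty (EtCoh.Ab X) := fun F => EtPBC.IsConstructible F

instance : (cons X).IsClosedUnderIsomorphisms where
  of_iso e h := StrataGlob.isConstructible_of_iso e h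

instance : (cons X).IsClosedUnderBinaryProducts where
  limitsOfShape_le := by
    rintro Y ⟨p⟩
    refine (cons X).prop_of_iso ?_ (ConsExact.isConstructible_biprod
      (p.prop_diag_obj (.mk .left)) (p.prop_diag_obj (.mk .right)))
    exact biprod.isoProd _ _ ≪≫ IsLimit.conePointUniqueUpToIso (prodIsProd _ _)
      ((IsLimit.postcomposeHomEquiv (diagramIsoPair p.diag) _).2 p.isLimit)

instance : (cons X).ContainsZero where
  exists_zero :=
    have ⟨Z, hZ⟩ := HasZeroObject.zero (C := EtCoh.Ab X)
    ⟨Z, hZ, ConsExact.isConstructible_of_isZero hZ⟩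

instance : (cons X).IsClosedUnderFiniteProducts := .mk'

theorem cons_biproduct {n : ℕ} (G : Fin n → EtCoh.Ab X) (h : ∀ i, EtPBC.IsConstructible (G i)) :
    EtPBC.IsConstructible (⨁ G) :=
  (cons X).prop_of_iso (biproduct.isoProduct G).symm ((cons X).prop_product h)

/-- Every constructible sheaf on a Noetherian scheme embeds into a finite sum of finite direct images
of finite constant sheaves, the quotient being constructible. -/
theorem exists_embedding (X : Scheme.{0}) [IsNoetherian X] (F : EtCoh.Ab X)
    (hF : EtPBC.IsConstructible F) :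
    ∃ (n : ℕ) (Y : Fin n → Scheme.{0}) (f : ∀ i, Y i ⟶ X) (_ : ∀ i, IsFinite (f i))
      (M : Fin n → Type) (_ : ∀ i, AddCommGroup (M i)) (_ : ∀ i, Finite (M i))
      (ι : F ⟶ ⨁ fun i => (EtCoh.push (f i)).obj (EtCoh.const (Y i) (M i))), Mono ι ∧
        EtPBC.IsConstructible (cokernel ι) := by
  obtain ⟨n, Y, f, h1, M, h3, h4, h5⟩ := Groth.Agent.S0143.result X F hF
  obtain ⟨ι, hι⟩ := h5
  refine ⟨n, Y, f, h1, M, h3, h4, ι, hι, ConsExact.isConstructible_cokernel ι hF
    (cons_biproduct _ fun i => ?_)⟩
  have := h1 i
  have : LocallyOfFinitePresentation (f i) := inferInstance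
  exact FinPush.isConstructible_push (f i) _ (Etrest.ConstBasic.isConstructible_const (Y i) (M i))

end General

variable (X : Scheme.{0}) [X.Over An.SC] [LocallyOfFiniteType (X ↘ An.SC)] [Fact An.EtaleLH]
  [An.EpsCont X] [PreservesFiniteLimits (An.epsPull X)]

theorem hcmp_eq_cmp (F : EtCoh.Ab X) (q : ℕ) :
    An.Hcmp X F q = cmp (An.epsPull X) (An.epsPullConst X ℤ).inv F q := rfl

/-- **Finite direct images of finite constant sheaves suffice.** -/
theorem hcmp_bijective_of_push_const [IsNoetherian X]
    (h : ∀ (Y : Scheme.{0}) (p : Y ⟶ X) [IsFinite p] (M : Type) [AddCommGroup M] [Finite M] (q : ℕ),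
      Function.Bijective (An.Hcmp X ((EtCoh.push p).obj (EtCoh.const Y M)) q))
    (F : EtCoh.Ab X) (hF : EtPBC.IsConstructible F) (q : ℕ) :
    Function.Bijective (An.Hcmp X F q) := by
  refine Dev.bijective_of_embedding (An.epsPull X) (An.epsPullConst X ℤ).inv
    (fun F : EtCoh.Ab X => EtPBC.IsConstructible F) (fun F hF => ?_) q F hF
  obtain ⟨n, Y, f, h1, M, h3, h4, ι, hι, hc⟩ := exists_embedding X F hF
  refine ⟨ShortComplex.mk ι (cokernel.π ι) (cokernel.condition ι),
    { exact := ShortComplex.exact_cokernel ι, mono_f := hι, epi_g := by dsimp; infer_instance },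
    rfl, hc, fun q => ⟨?_, ?_⟩⟩
  · refine injective_biproduct (An.epsPull X) (An.epsPullConst X ℤ).inv _ q fun i => ?_
    have := h1 i
    exact (h (Y i) (f i) (M i) q).1
  · refine surjective_biproduct (An.epsPull X) (An.epsPullConst X ℤ).inv _ q fun i => ?_
    have := h1 i
    exact (h (Y i) (f i) (M i) q).2

end Groth.Agent.An.H895.Consts
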