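import Groth.Agent.Sga4h.RPairDer
import Groth.Agent.Sga4B.ExtCmpSquare

/-!
# Comparison maps of Ext groups from base change squares

* `map_bijective_of_BC`: for a square `s` of functors `Φ, G, G', Φ'` such that base change holds for `K`,
  the map `Hom(Φ N, K) → Hom(G' Φ N, G' K)` is bijective as soon as `G` is fully faithful at `N`;
* `mapExact_bijective_of_BC`: the version for `Ext` groups and squares of exact functors.
-/

set_option autoImplicit false

universe t t' w w' w'' w''' v₁ v₂ v₃ v₄ u₁ u₂ u₃ u₄ v v' v'' v''' u u' u'' u'''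

open CategoryTheory CategoryTheory.Limits CategoryTheory.Abelian Category

namespace Groth.Agent.An.H895.FromComp

open Groth.Agent.Sga4h.RPair

section abstract

variable {A : Type u₁} [Category.{v₁} A] {B : Type u₂} [Category.{v₂} B]
  {A' : Type u₃} [Category.{v₃} A'] {B' : Type u₄} [Category.{v₄} B']
  {Φ : A ⥤ B} {G : A ⥤ A'} {G' : B ⥤ B'} {Φ' : A' ⥤ B'}

theorem map_fac (s : Sq Φ G G' Φ') {M N : A} {K : B} (ε : Φ.obj M ⟶ K) (a : N ⟶ M) :
    s.σ.hom.app N ≫ G'.map (Φ.map a ≫ ε) = Φ'.map (G.map a) ≫ s.bc ε := by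
  have h := s.σ.hom.naturality a
  dsimp at h
  rw [Functor.map_comp, ← assoc]
  erw [← h]
  rw [assoc]
  rfl

/-- If base change holds for `K`, then `Hom(Φ N, K) → Hom(G' Φ N, G' K)` is bijective when `G` is
fully faithful at `N`. -/
theorem map_bijective_of_BC (s : Sq Φ G G' Φ') {K : B} (h : s.BC K) (N : A)
    (hG : ∀ M : A, Function.Bijective (fun a : N ⟶ M => G.map a)) :
    Function.Bijective (fun x : Φ.obj N ⟶ K => G'.map x) := by
  obtain ⟨M, ε, h1, h2⟩ := h
  constructor
  · intro x x' hx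
    obtain ⟨a, rfl⟩ := (h1 N).2 x
    obtain ⟨a', rfl⟩ := (h1 N).2 x'
    have h3 : a = a' := by
      apply (hG M).1
      apply (h2 (G.obj N)).1
      change Φ'.map (G.map a) ≫ s.bc ε = Φ'.map (G.map a') ≫ s.bc ε
      rw [← map_fac, ← map_fac]
      exact congrArg (fun y => s.σ.hom.app N ≫ y) hx
    rw [h3]
  · intro y
    obtain ⟨b, hb⟩ := (h2 (G.obj N)).2 (s.σ.hom.app N ≫ y)
    obtain ⟨a, rfl⟩ := (hG M).2 b
    refine ⟨Φ.map a ≫ ε, ?_⟩
    rw [← cancel_epi (s.σ.hom.app N)]
    exact (map_fac s ε a).trans hb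

end abstract

section Ext

variable {A : Type u} [Category.{v} A] [Abelian A] [HasDerivedCategory.{w} A] [HasExt.{t} A]
  {B : Type u'} [Category.{v'} B] [Abelian B] [HasDerivedCategory.{w'} B]
  {A₂ : Type u''} [Category.{v''} A₂] [Abelian A₂] [HasDerivedCategory.{w''} A₂] [HasExt.{t'} A₂]
  {B₂ : Type u'''} [Category.{v'''} B₂] [Abelian B₂] [HasDerivedCategory.{w'''} B₂]
  {L : B ⥤ A} [L.Additive] [PreservesFiniteLimits L] [PreservesFiniteColimits L]
  {L₂ : B₂ ⥤ A₂} [L₂.Additive] [PreservesFiniteLimits L₂] [PreservesFiniteColimits L₂]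
  {E : A ⥤ A₂} [E.Additive] [PreservesFiniteLimits E] [PreservesFiniteColimits E]
  {E' : B ⥤ B₂} [E'.Additive] [PreservesFiniteLimits E'] [PreservesFiniteColimits E']

open DerivedCategory

/-- The comparison map on Ext groups is bijective if it is on the level of derived categories. -/
theorem mapExact_bijective_of_map (N F : A) (n : ℕ)
    (h : Function.Bijective (fun x : (singleFunctor A 0).obj N ⟶ ((singleFunctor A 0).obj F)⟦(n : ℤ)⟧ =>
      E.mapDerivedCategory.map x)) :
    Function.Bijective (fun e : Ext.{t} N F n => e.mapExactFunctor E) := by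
  have key : ∀ e : Ext.{t} N F n, (e.mapExactFunctor E).hom =
    (E.mapDerivedCategorySingleFunctor 0).inv.app N ≫ (E.mapDerivedCategory.map e.hom ≫
      (E.mapDerivedCategory.commShiftIso (n : ℤ)).hom.app _) ≫
    ((E.mapDerivedCategorySingleFunctor 0).hom.app F)⟦(n : ℤ)⟧' := fun e =>
      Ext.mapExactFunctor_hom E e
  constructor
  · intro e e' he
    have h1 := congrArg Ext.hom he
    dsimp only at h1
    rw [key, key, cancel_epi, cancel_mono, cancel_mono] at h1
    exact Ext.homEquiv.injective (h.1 h1)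
  · intro y
    obtain ⟨x, hx⟩ := h.2 ((E.mapDerivedCategorySingleFunctor 0).hom.app N ≫ y.hom ≫
      ((E.mapDerivedCategorySingleFunctor 0).inv.app F)⟦(n : ℤ)⟧' ≫
        (E.mapDerivedCategory.commShiftIso (n : ℤ)).inv.app _)
    obtain ⟨e, rfl⟩ := Ext.homEquiv.surjective x
    refine ⟨e, Ext.homEquiv.injective ?_⟩
    change (e.mapExactFunctor E).hom = y.hom
    have hx' : E.mapDerivedCategory.map e.hom = _ := hx
    rw [key, hx']
    simp only [assoc, Iso.inv_hom_id_app_assoc]
    rw [← CategoryTheory.Functor.map_comp, Iso.inv_hom_id_app]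
    exact (congrArg (fun z => y.hom ≫ z) (CategoryTheory.Functor.map_id _ _)).trans (comp_id _)

/-- **Comparison maps from base change.** -/
theorem mapExact_bijective_of_BC (c : E' ⋙ L₂ ≅ L ⋙ E) (F : A)
    (h : (sq c).BC ((singleFunctor A 0).obj F)) (N : B)
    (hE' : ∀ M : DerivedCategory B, Function.Bijective
      (fun a : (singleFunctor B 0).obj N ⟶ M => E'.mapDerivedCategory.map a)) (n : ℕ) :
    Function.Bijective (fun e : Ext.{t} (L.obj N) F n => e.mapExactFunctor E) := by
  apply mapExact_bijective_of_map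
  have h1 := map_bijective_of_BC (sq c) (h.shift (n : ℤ)) _ hE'
  let i : L.mapDerivedCategory.obj ((singleFunctor B 0).obj N) ≅ (singleFunctor A 0).obj (L.obj N) :=
    (L.mapDerivedCategorySingleFunctor 0).app N
  constructor
  · intro x x' hx
    rw [← cancel_epi i.hom]
    apply h1.1
    dsimp only at hx ⊢
    rw [Functor.map_comp, Functor.map_comp, hx]
  · intro y
    obtain ⟨x, hx⟩ := h1.2 (E.mapDerivedCategory.map i.hom ≫ y)
    refine ⟨i.inv ≫ x, ?_⟩
    dsimp only at hx ⊢
    rw [CategoryTheory.Functor.map_comp, hx, ← assoc, ← CategoryTheory.Functor.map_comp,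
      Iso.inv_hom_id, CategoryTheory.Functor.map_id, id_comp]

end Ext

end Groth.Agent.An.H895.FromComp
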