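import Groth.Agent.An.H885.EpsGerm
import Groth.Agent.Etcore.LocalIso
import Groth.Agent.An.H878.Point

/-!
# The comparison between étale and classical sheaves over the point `Spec ℂ`

* `cl_isIso_of_local`: elementwise criterion for isomorphisms of sheaves on classical sites;
* `isEquivalence_epsPull`: over `Spec ℂ` the functor `ε^*` is an equivalence of categories.
-/

set_option autoImplicit false
universe u
open CategoryTheory CategoryTheory.Limits AlgebraicGeometry TopologicalSpace Topology Opposite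

noncomputable section

namespace Groth.Agent.An.H895.Pt

open Groth.Agent.An.H885.ClPoint Groth.Agent.An.H885.EpsGerm Groth.Agent.An.H878.Point

section local_iso

variable {T : Type u} [TopologicalSpace T]

theorem hasSheafCompose_cl (T : Type u) [TopologicalSpace T] :
    (An.Cl.topology T).HasSheafCompose (forget AddCommGrpCat.{u + 1}) :=
  inferInstance

/-- Elementwise criterion for an isomorphism of abelian sheaves on a classical site. -/
theorem cl_isIso_of_local {F G : An.Cl.Ab T} (φ : F ⟶ G)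
    (hinj : ∀ (A : An.Cl T) (s : An.Cl.sect F A), φ.hom.app (op A) s = 0 → ∀ a : A.E,
      ∃ (B : An.Cl T) (g : B ⟶ A) (b : B.E), g.toFun b = a ∧ res F g s = 0)
    (hsurj : ∀ (A : An.Cl T) (t : An.Cl.sect G A) (a : A.E),
      ∃ (B : An.Cl T) (g : B ⟶ A) (b : B.E) (s : An.Cl.sect F B), g.toFun b = a ∧
        φ.hom.app (op B) s = res G g t) : IsIso φ := by
  have hs := hasSheafCompose_cl T
  refine (Sheaf.isLocallyBijective_iff_isIso (J := An.Cl.topology T)
    (A := AddCommGrpCat.{u + 1}) φ).mp ⟨?_, ?_⟩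
  · constructor
    intro U x y h
    rw [mem_topology_iff]
    intro u
    have h0 : φ.hom.app (op U.unop) (x - y) = 0 := by
      have := map_sub (φ.hom.app U).hom x y
      refine this.trans ?_
      exact sub_eq_zero.mpr h
    obtain ⟨W, g, w, hw, h1⟩ := hinj U.unop (x - y) h0 u
    refine ⟨W, g, w, ?_, hw⟩
    have h2 := map_sub (F.obj.map g.op).hom x y
    exact sub_eq_zero.mp (h2.symm.trans h1)
  · constructor
    intro U t
    rw [mem_topology_iff]
    intro u
    obtain ⟨W, g, w, s, hw, h1⟩ := hsurj U t u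
    exact ⟨W, g, w, ⟨s, h1⟩, hw⟩

end local_iso

section point

/-- A point of an object of the classical site of the point as a constant morphism. -/
def ptHom (B : An.Cl (An.Pts An.SC)) {A : An.Cl (An.Pts An.SC)} (a : A.E) : B ⟶ A :=
  ⟨fun _ => a, continuous_const, fun _ => Subsingleton.elim _ _⟩

/-- Isomorphisms of sheaves on the classical site of the point can be tested on sections over any
nonempty object. -/
theorem isIso_of_gsec {F G : An.Cl.Ab (An.Pts An.SC)} (φ : F ⟶ G) (B : An.Cl (An.Pts An.SC))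
    (b : B.E) (h : Function.Bijective (φ.hom.app (op B))) : IsIso φ := by
  refine cl_isIso_of_local φ (fun A s hs a => ⟨B, ptHom B a, b, rfl, h.1 ?_⟩)
    (fun A t a => ?_)
  · rw [← res_naturality, hs, map_zero, map_zero]
  · obtain ⟨s, hs⟩ := h.2 (res G (ptHom B a) t)
    exact ⟨B, ptHom B a, b, s, rfl, hs⟩

/-- A complex point of an étale `ℂ`-scheme as a morphism of the étale site. -/
def ptEt {U : An.SC.Etale} (a : An.Pts U.left) : EtCoh.top An.SC ⟶ U :=
  MorphismProperty.Over.homMk a.1 (by
    have h := a.2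
    change a.1 ≫ U.hom ≫ 𝟙 _ = 𝟙 _ at h
    rw [Category.comp_id] at h
    exact h)

theorem exists_pt_of_point {U : An.SC.Etale} (u : U.left) : ∃ a : An.Pts U.left, a.pt = u := by
  obtain ⟨l, hl, hl'⟩ := Scheme.exists_fac_of_etale_of_isSepClosed (Ω := ℂ) U.hom (𝟙 An.SC) u
    (Subsingleton.elim (α := PrimeSpectrum ℂ) _ _)
  refine ⟨⟨l, ?_⟩, ?_⟩
  · change l ≫ U.hom ≫ 𝟙 _ = 𝟙 _
    rw [Category.comp_id]
    exact hl
  · exact hl'

variable [Fact An.EtaleLH]

theorem eps_map_ptEt {U : An.SC.Etale} (a : An.Pts U.left) :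
    (An.eps An.SC).map (ptEt a) = ptHom _ (A := (An.eps An.SC).obj U) a := by
  refine An.Cl.hom_ext (funext fun z => Subtype.ext ?_)
  change z.1 ≫ a.1 = a.1
  have h := z.2
  change z.1 ≫ (𝟙 _ ≫ 𝟙 _) = 𝟙 _ at h
  rw [Category.comp_id, Category.comp_id] at h
  rw [h]
  exact Category.id_comp _

variable [An.EpsCont An.SC]

/-- Over `Spec ℂ` the unit `F → ε_* ε^* F` is an isomorphism. -/
theorem isIso_unit (F : EtCoh.Ab An.SC) : IsIso ((An.epsAdj An.SC).unit.app F) := by
  refine Etcore.LocalIso.isIso_of_local _ (fun U s hs x => ⟨U, 𝟙 U, x, rfl, ?_⟩)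
    (fun U s u => ?_)
  · have h1 : s = 0 := eta_injective An.SC F U (hs.trans (map_zero (eta An.SC F U)).symm)
    rw [h1]
    exact map_zero (EtpbcA.Germ.res F (𝟙 U))
  · obtain ⟨a, ha⟩ := exists_pt_of_point u
    obtain ⟨V, r, C, k, c, x, hk, e⟩ := exists_eta An.SC F s a
    refine ⟨EtCoh.top An.SC, ptEt a, An.cpt, EtpbcA.Germ.res F (ptEt (c.toFun x)) r, ha, ?_⟩
    refine (res_eta An.SC F (ptEt (c.toFun x)) r).symm.trans ?_
    change _ = res _ ((An.eps An.SC).map (ptEt a)) s
    have h1 : (An.eps An.SC).map (ptEt (c.toFun x)) = ptHom _ x ≫ c := by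
      rw [eps_map_ptEt]
      rfl
    have h2 : (An.eps An.SC).map (ptEt a) = ptHom _ x ≫ k := by
      rw [eps_map_ptEt]
      exact An.Cl.hom_ext (funext fun z => hk.symm)
    rw [h1, h2, res_comp, res_comp, e]

/-- Over `Spec ℂ` the counit `ε^* ε_* G → G` is an isomorphism. -/
theorem isIso_counit (G : An.Cl.Ab (An.Pts An.SC)) : IsIso ((An.epsAdj An.SC).counit.app G) := by
  have h1 := (An.epsAdj An.SC).right_triangle_components G
  have h0 := isIso_unit ((An.epsPush An.SC).obj G)
  have h2 : IsIso ((An.epsPush An.SC).map ((An.epsAdj An.SC).counit.app G)) := by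
    rw [IsIso.eq_inv_of_hom_inv_id h1]
    infer_instance
  have h3 : IsIso ((sheafToPresheaf _ _ ⋙ (evaluation _ _).obj (op (EtCoh.top An.SC))).map
    ((An.epsPush An.SC).map ((An.epsAdj An.SC).counit.app G))) := inferInstance
  obtain ⟨a, -⟩ := exists_pt_of_point (U := EtCoh.top An.SC) An.cpt
  refine isIso_of_gsec _ ((An.eps An.SC).obj (EtCoh.top An.SC)) a ?_
  exact (ConcreteCategory.isIso_iff_bijective _).1 h3

/-- **Over `Spec ℂ` the functor `ε^*` is an equivalence of categories.** -/
instance isEquivalence_epsPull : (An.epsPull An.SC).IsEquivalence := by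
  have h1 : ∀ F, IsIso ((An.epsAdj An.SC).unit.app F) := isIso_unit
  have h2 : ∀ G, IsIso ((An.epsAdj An.SC).counit.app G) := isIso_counit
  exact (An.epsAdj An.SC).toEquivalence.isEquivalence_functor

end point

end Groth.Agent.An.H895.Pt
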