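import Groth.Prelude.Def_AnEps
import Groth.Agent.An.H895.FromComp
import Groth.Agent.An.H895.Pt
import Groth.Agent.Sga4h.GSqEt

/-!
# The comparison theorem from base change for `ε` along `X ⟶ Spec ℂ`
-/

set_option autoImplicit false
open CategoryTheory CategoryTheory.Limits AlgebraicGeometry

attribute [-instance] AlgebraicGeometry.specOverSpec

attribute [local instance] HasDerivedCategory.standard

noncomputable section

namespace Groth.Agent.An.H895.Final

open Groth.Agent.Sga4h.RPair Groth.Agent.Sga4B.ExtCmp DerivedCategory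

variable (X : Scheme.{0}) [X.Over An.SC] [LocallyOfFiniteType (X ↘ An.SC)] [Fact An.EtaleLH]
  [An.EpsCont X] [PreservesFiniteLimits (An.epsPull X)]
  [An.EpsCont An.SC] [PreservesFiniteLimits (An.epsPull An.SC)]

/-- **The comparison theorem from base change for `ε` along `X ⟶ Spec ℂ`.** -/
theorem hcmp_bijective_of_BC {L₂ : An.Cl.Ab (An.Pts An.SC) ⥤ An.Cl.Ab (An.Pts X)} [L₂.Additive]
    [PreservesFiniteLimits L₂] [PreservesFiniteColimits L₂]
    (c : An.epsPull An.SC ⋙ L₂ ≅ EtCoh.pull (X ↘ An.SC) ⋙ An.epsPull X) (F : EtCoh.Ab X)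
    (h : (sq c).BC ((singleFunctor _ 0).obj F)) (q : ℕ) : Function.Bijective (An.Hcmp X F q) := by
  have h00 : (An.epsPull An.SC).IsEquivalence := Pt.isEquivalence_epsPull
  have h0 : (An.epsPull An.SC).mapDerivedCategory.IsEquivalence :=
    Sga4h.GSq.isEquivalence_mapDer _
  have h1 := FromComp.mapExact_bijective_of_BC c F h (EtCoh.const An.SC ℤ)
    (fun M => ⟨fun a b hab => (An.epsPull An.SC).mapDerivedCategory.map_injective hab,
      fun b => (An.epsPull An.SC).mapDerivedCategory.map_surjective b⟩) q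
  have h2 : Function.Bijective (cmp (An.epsPull X) (𝟙 ((An.epsPull X).obj
      ((EtCoh.pull (X ↘ An.SC)).obj (EtCoh.const An.SC ℤ)))) F q) := by
    have h3 : ⇑(cmp (An.epsPull X) (𝟙 ((An.epsPull X).obj
      ((EtCoh.pull (X ↘ An.SC)).obj (EtCoh.const An.SC ℤ)))) F q) =
        fun e => e.mapExactFunctor (An.epsPull X) := by
      funext e
      rw [cmp_apply, Abelian.Ext.mk₀_id_comp]
    rw [h3]
    exact h1
  have hc : IsIso (EtCore.pullConst (X ↘ An.SC) ℤ).inv := inferInstance
  exact ⟨injective_change (An.epsPull X) _ (An.epsPullConst X ℤ).inv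
      (EtCore.pullConst (X ↘ An.SC) ℤ).inv F q h2.1,
    surjective_change (An.epsPull X) _ (An.epsPullConst X ℤ).inv
      (EtCore.pullConst (X ↘ An.SC) ℤ).inv F q h2.2⟩

end Groth.Agent.An.H895.Final
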