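import Groth.Agent.An.H862.Asm4219
import Groth.Agent.An.H895.FinalComp

/-!
# S4223 from the main theorem on admissible complexes
-/

set_option autoImplicit false
open CategoryTheory CategoryTheory.Limits AlgebraicGeometry

attribute [-instance] AlgebraicGeometry.specOverSpec
attribute [local instance] HasDerivedCategory.standard

noncomputable section

namespace Groth.Agent.An.H895.OfMain

open Groth.Agent.Etrest.DEtPush Groth.Agent.Sga4h.AdmCx Groth.Agent.Sga4h.IndCalc
  Groth.Agent.An.H891.CompSq Groth.Agent.An.H862.Asm4219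
open DerivedCategory (homologyFunctor singleFunctor)

variable
  (main : ∀ (m : ℕ), 0 < m → ∀ {X Y : Scheme.{0}} (s : Y ⟶ An.SC) (f : X ⟶ Y) [FT s] [FT f]
    (K : DCoh.DEt X), Adm m K → CP s f K)
  (target : ∀ {X Y : Scheme.{0}} (s : Y ⟶ An.SC) (f : X ⟶ Y) [LocallyOfFiniteType s] [FT f] {ι : Type}
    (Y' X' : ι → Scheme.{0}) (j : ∀ i, Y' i ⟶ Y) [∀ i, IsOpenImmersion (j i)] (f' : ∀ i, X' i ⟶ Y' i)
    (j' : ∀ i, X' i ⟶ X), (∀ i, IsPullback (j' i) (f' i) f (j i)) → (∀ y : Y, ∃ i, y ∈ Set.range (j i)) →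
    ∀ (K : DCoh.DEt X), (∀ i, CP (j i ≫ s) (f' i) ((pullD (j' i)).obj K)) → CP s f K)
  (of_iso : ∀ {X Y : Scheme.{0}} {s : Y ⟶ An.SC} {f : X ⟶ Y} {K L : DCoh.DEt X},
    (K ≅ L) → CP s f K → CP s f L)

include main target of_iso in
/-- `Comp` for constructible sheaves along `X ⟶ Spec ℂ`. -/
theorem comp_single (X : Scheme.{0}) [X.Over An.SC] [LocallyOfFiniteType (X ↘ An.SC)]
    [QuasiCompact (X ↘ An.SC)] (F : EtCoh.Ab X) (hc : EtPBC.IsConstructible F) :
    Comp (X ↘ An.SC) ((singleFunctor _ 0).obj F) := by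
  have h3 : FT (X ↘ An.SC) := FT.of _
  exact comp_of_cp (X ↘ An.SC) _ (cp_single main target of_iso (An.SC ↘ An.SC) (X ↘ An.SC) F hc)

include main target of_iso in
/-- **S4223 from the main theorem.** -/
theorem hcmp_bijective (X : Scheme.{0}) [X.Over An.SC] [LocallyOfFiniteType (X ↘ An.SC)]
    [QuasiCompact (X ↘ An.SC)] (F : EtCoh.Ab X) (hc : EtPBC.IsConstructible F) (q : ℕ) :
    Function.Bijective (An.Hcmp X F q) :=
  FinalComp.hcmp_bijective_of_comp X F (comp_single main target of_iso X F hc) q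

end Groth.Agent.An.H895.OfMain
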