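import Groth.Agent.An.H895.ConstReduction
import Groth.Agent.An.H888.Collapse
import Groth.Agent.An.H885.EpsUnit

/-!
# S4223 from the vanishing of `R^q ε_*` for finite constant coefficients
-/

set_option autoImplicit false
open CategoryTheory CategoryTheory.Limits AlgebraicGeometry

noncomputable section

namespace Groth.Agent.An.H895.OfT

/-- The comparison for finite constant coefficients from the vanishing of `R^q ε_*`. -/
theorem hcmp_const (Y : Scheme.{0}) [Y.Over An.SC] [LocallyOfFiniteType (Y ↘ An.SC)]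
    [Fact An.EtaleLH] [An.EpsCont Y] [PreservesFiniteLimits (An.epsPull Y)]
    (M : Type) [AddCommGroup M] [Finite M]
    (h : ∀ q : ℕ, 0 < q → IsZero ((An.epsRpush Y q).obj (An.Cl.const (An.Pts Y) M))) (q : ℕ) :
    Function.Bijective (An.Hcmp Y (EtCoh.const Y M) q) := by
  refine H888.Collapse.hcmp_bijective_of_acyclic Y (EtCoh.const Y M) ?_ (fun q hq => ?_) q
  · exact H885.EpsUnit.isIso_unit Y _ (H885.EpsUnit.isLC_of_isFiniteLocallyConstant Y _
      (Etrest.ConstBasic.isFiniteLocallyConstant_const Y M))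
  · exact (h q hq).of_iso ((An.epsRpush Y q).mapIso (An.epsPullConst Y M))

/-- **S4223 from route T.** -/
theorem hcmp_bijective_of_T [Fact An.EtaleLH]
    (H : ∀ (Y : Scheme.{0}) [Y.Over An.SC] [LocallyOfFiniteType (Y ↘ An.SC)] [An.EpsCont Y]
      (M : Type) [AddCommGroup M] [Finite M] (q : ℕ), 0 < q →
        IsZero ((An.epsRpush Y q).obj (An.Cl.const (An.Pts Y) M)))
    (X : Scheme.{0}) [X.Over An.SC] [LocallyOfFiniteType (X ↘ An.SC)]
    [QuasiCompact (X ↘ An.SC)] [An.EpsCont X]
    [PreservesFiniteLimits (An.epsPull X)] (F : EtCoh.Ab X)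
    (hc : EtPBC.IsConstructible F) (q : ℕ) :
    Function.Bijective (An.Hcmp X F q) :=
  ConstReduction.hcmp_bijective_of_const X
    (fun Y _ _ _ _ _ _ _ _ M _ _ q => hcmp_const Y M (fun q hq => H Y M q hq) q) F hc q

end Groth.Agent.An.H895.OfT
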